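import Groth.Agent.Lib.OrbitQuot19.Basic
import Groth.Agent.Lib.OrbitTop19.Flat
import Groth.Agent.Lib.OrbitTop19.Smooth
import Groth.Agent.Lib.FpqcDesc.Basic
import Groth.Agent.Lib.Aligned15.Basic

/-!
# Orbit maps with closed image and proper stabiliser are proper
-/

set_option autoImplicit false
set_option linter.style.haveILetI false
set_option backward.isDefEq.respectTransparency.types false

universe u

open CategoryTheory CategoryTheory.Limits MonoidalCategory CartesianMonoidalCategory MonObj AlgebraicGeometry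

namespace Groth.Agent.OrbitProper15

open Groth.Agent.OrbitTop19

theorem isProper_orbitMap {k : Type u} [Field k] [IsAlgClosed k] {G X : Over (Spec (CommRingCat.of k))} [GrpObj G]
    [LocallyOfFiniteType G.hom] [QuasiCompact G.hom] [LocallyOfFiniteType X.hom]
    (a : AlgGrp.Action G X) (x : 𝟙_ (Over (Spec (CommRingCat.of k))) ⟶ X)
    (hcl : IsClosed (Set.range (a.orbitMap x).left)) (hH : IsProper (Limits.pullback (a.orbitMap x) x).hom) :
    IsProper (a.orbitMap x).left := by
  set o := a.orbitMap x
  haveI : IsLocallyNoetherian X.left := LocallyOfFiniteType.isLocallyNoetherian X.hom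
  haveI : IsLocallyNoetherian G.left := LocallyOfFiniteType.isLocallyNoetherian G.hom
  haveI : CompactSpace G.left := QuasiCompact.compactSpace_of_compactSpace G.hom
  haveI : LocallyOfFiniteType (o.left ≫ X.hom) := by rw [Over.w o]; infer_instance
  haveI : LocallyOfFiniteType o.left := locallyOfFiniteType_of_comp o.left X.hom
  haveI : IsClosedImmersion η[G].left := isClosedImmersion_of_comp_eq_id G.hom η[G].left (Over.w η[G])
  -- the kernel pair
  haveI hk : IsProper (pullback.snd o.left o.left) := by
    have sq := OrbitQuot19.isPullback_forget (OrbitQuot19.isPullback_orbitMap a x)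
    haveI : IsProper (fst G (Limits.pullback (a.orbitMap x) x)).left := MorphismProperty.of_isPullback (P := @IsProper)
      (IsPullback.of_hasPullback G.hom (Limits.pullback (a.orbitMap x) x).hom).flip hH
    rw [← sq.isoPullback_inv_snd]
    infer_instance
  -- the reduced orbit
  let C₀ : TopologicalSpace.Closeds X.left := ⟨Set.range o.left, hcl⟩
  let C := (Scheme.IdealSheafData.vanishingIdeal C₀).subscheme
  let j : C ⟶ X.left := (Scheme.IdealSheafData.vanishingIdeal C₀).subschemeι
  have hj : Set.range j = Set.range o.left := by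
    rw [Scheme.IdealSheafData.range_subschemeι, Scheme.IdealSheafData.coe_support_vanishingIdeal]; rfl
  haveI : AlgebraicGeometry.IsReduced C := RedSepLib.isReduced_vanishingIdeal_subscheme C₀
  haveI : IsLocallyNoetherian C := LocallyOfFiniteType.isLocallyNoetherian j
  haveI : Nonempty C := by
    obtain ⟨c, hc⟩ : o.left (η[G].left (IsLocalRing.closedPoint k)) ∈ Set.range j := hj.ge ⟨_, rfl⟩
    exact ⟨c⟩
  haveI : CompactSpace C := by
    refine ⟨j.isClosedEmbedding.isInducing.isCompact_iff.2 ?_⟩
    rw [Set.image_univ, hj]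
    exact isCompact_range o.left.continuous
  -- the reduced group
  let G₀ := G.left.nilradical.subscheme
  let r : G₀ ⟶ G.left := G.left.nilradical.subschemeι
  haveI : AlgebraicGeometry.IsReduced G₀ := RedSepLib.isReduced_nilradical_subscheme G.left
  haveI : Surjective r := ⟨fun g => by
    have : g ∈ Set.range r := by
      rw [Scheme.IdealSheafData.range_subschemeι, Scheme.support_nilradical]; trivial
    exact this⟩
  haveI : CompactSpace G₀ := QuasiCompact.compactSpace_of_compactSpace r
  obtain ⟨o', ho'⟩ := RedSepLib.exists_lift_of_range_subset (r ≫ o.left) j (by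
    rintro _ ⟨g, rfl⟩; exact hj.ge ⟨r g, rfl⟩)
  have happ : ∀ g, j (o' g) = o.left (r g) := fun g => congrArg (fun m : G₀ ⟶ X.left => m g) ho'
  haveI : QuasiCompact (o' ≫ j) := by rw [ho']; infer_instance
  haveI : QuasiCompact o' := QuasiCompact.of_comp o' j
  haveI : LocallyOfFiniteType (o' ≫ j) := by rw [ho']; infer_instance
  haveI : LocallyOfFiniteType o' := locallyOfFiniteType_of_comp o' j
  haveI := VarDim.locallyOfFinitePresentation_of_locallyNoetherian o'
  haveI : Surjective o' := ⟨fun c => by
    obtain ⟨g, hg⟩ : j c ∈ Set.range o.left := hj.le ⟨c, rfl⟩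
    obtain ⟨g₀, rfl⟩ := r.surjective g
    exact ⟨g₀, j.isEmbedding.injective (by rw [happ, hg])⟩⟩
  haveI : Flat o' := by
    obtain ⟨W, hW, hne, hflat⟩ := exists_open_flat o'
    obtain ⟨W', hW', rfl⟩ := j.isEmbedding.isInducing.isOpen_iff.1 hW
    refine (Flat.iff_flat_stalkMap _).2 fun y => ?_
    have hne' : (o.left ⁻¹' W').Nonempty := by
      obtain ⟨c, hc⟩ := hne
      obtain ⟨g, hg⟩ : j c ∈ Set.range o.left := hj.le ⟨c, rfl⟩
      exact ⟨g, by rw [Set.mem_preimage, hg]; exact hc⟩
    obtain ⟨γ, hγ⟩ := exists_translate (f := o) (a := mulAction G) (b := a) isTransitive_mul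
      (orbitMap_equivariant a x) hW' hne' (r y)
    have htr : ∀ (δ : 𝟙_ (Over (Spec (CommRingCat.of k))) ⟶ G) (g : G.left),
        (tr a δ).left (o.left g) = o.left ((tr (mulAction G) δ).left g) := fun δ g => by
      rw [apply_comp_left _ _ _ (tr_equivariant (orbitMap_equivariant a x) δ) g,
        apply_comp_left o (tr a δ) _ rfl g]
    have hstab : ∀ δ : 𝟙_ (Over (Spec (CommRingCat.of k))) ⟶ G, ∃ w : C ⟶ C, w ≫ j = j ≫ (tr a δ).left := by
      intro δ
      refine exists_lift_immersion _ j ?_
      rintro _ ⟨c, rfl⟩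
      obtain ⟨g, hg⟩ : j c ∈ Set.range o.left := hj.le ⟨c, rfl⟩
      refine hj.ge ⟨(tr (mulAction G) δ).left g, ?_⟩
      rw [← htr, hg, Scheme.Hom.comp_apply]
    have hstab₀ : ∀ δ : 𝟙_ (Over (Spec (CommRingCat.of k))) ⟶ G,
        ∃ w : G₀ ⟶ G₀, w ≫ r = r ≫ (tr (mulAction G) δ).left := fun δ =>
      exists_lift_immersion _ r (fun g _ => r.surjective g)
    obtain ⟨w, hw⟩ := hstab γ
    obtain ⟨w', hw'⟩ := hstab γ⁻¹
    obtain ⟨v, hv⟩ := hstab₀ γ
    obtain ⟨v', hv'⟩ := hstab₀ γ⁻¹
    haveI : IsIso w := ⟨w', by
      rw [← cancel_mono j, Category.assoc, hw', reassoc_of% hw, ← Over.comp_left, tr_inv]; simp, by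
      rw [← cancel_mono j, Category.assoc, hw, reassoc_of% hw', ← Over.comp_left, inv_tr]; simp⟩
    haveI : IsIso v := ⟨v', by
      rw [← cancel_mono r, Category.assoc, hv', reassoc_of% hv, ← Over.comp_left, tr_inv]; simp, by
      rw [← cancel_mono r, Category.assoc, hv, reassoc_of% hv', ← Over.comp_left, inv_tr]; simp⟩
    have hcomm : o' ≫ w = v ≫ o' := by
      rw [← cancel_mono j, Category.assoc, hw, reassoc_of% ho', Category.assoc, ho', reassoc_of% hv,
        ← Over.comp_left, ← Over.comp_left]
      congr 2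
      exact (tr_equivariant (orbitMap_equivariant a x) γ).symm
    refine flat_stalkMap_transfer o' o' v w hcomm y (hflat _ ?_)
    show j (o' (v y)) ∈ W'
    rw [← Scheme.Hom.comp_apply v o', ← hcomm, Scheme.Hom.comp_apply, ← Scheme.Hom.comp_apply w j, hw,
      Scheme.Hom.comp_apply, happ]
    exact hγ
  -- descent
  haveI h₁ : IsProper (pullback.snd o.left (r ≫ o.left)) := by
    have A := (IsPullback.of_hasPullback (pullback.snd o.left o.left) r).paste_horiz
      (IsPullback.of_hasPullback o.left o.left)
    haveI : IsProper (pullback.snd (pullback.snd o.left o.left) r) := MorphismProperty.pullback_snd _ _ hk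
    rw [← A.isoPullback_inv_snd]
    infer_instance
  haveI h₂ : IsProper (pullback.snd (r ≫ o.left) (r ≫ o.left)) := by
    have A := (IsPullback.of_hasPullback r (pullback.fst o.left (r ≫ o.left))).paste_vert
      (IsPullback.of_hasPullback o.left (r ≫ o.left))
    haveI : IsClosedImmersion (pullback.snd r (pullback.fst o.left (r ≫ o.left))) :=
      MorphismProperty.pullback_snd _ _ inferInstance
    rw [← A.isoPullback_inv_snd]
    infer_instance
  have hw : pullback.fst (r ≫ o.left) (r ≫ o.left) ≫ o' = pullback.snd (r ≫ o.left) (r ≫ o.left) ≫ o' := by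
    rw [← cancel_mono j, Category.assoc, Category.assoc, ho']
    exact pullback.condition
  have hc : ∀ s : PullbackCone o' o', s.fst ≫ r ≫ o.left = s.snd ≫ r ≫ o.left := fun s => by
    rw [← ho', reassoc_of% s.condition]
  have hP : IsPullback (pullback.fst (r ≫ o.left) (r ≫ o.left)) (pullback.snd (r ≫ o.left) (r ≫ o.left)) o' o' :=
    ⟨⟨hw⟩, ⟨PullbackCone.IsLimit.mk hw (fun s => pullback.lift s.fst s.snd (hc s))
      (fun s => pullback.lift_fst _ _ _) (fun s => pullback.lift_snd _ _ _)
      (fun s m h1 h2 => pullback.hom_ext (by rw [pullback.lift_fst]; exact h1)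
        (by rw [pullback.lift_snd]; exact h2))⟩⟩
  haveI : IsProper o' := by
    haveI := FpqcDesc.descendsAlong_isProper.{u}
    exact MorphismProperty.of_isPullback_of_descendsAlong (P := @IsProper) hP.flip
      (show (@Surjective ⊓ @Flat ⊓ @QuasiCompact : MorphismProperty Scheme.{u}) o' from
        ⟨⟨inferInstance, inferInstance⟩, inferInstance⟩) h₂
  haveI : UniversallyClosed (r ≫ o.left) := by rw [← ho']; infer_instance
  haveI : UniversallyClosed o.left := UniversallyClosed.of_comp_surjective r o.left
  haveI : IsSeparated o.left := by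
    haveI : IsSeparated (o.left ≫ X.hom) := by
      rw [Over.w o]; exact Aligned15.isSeparated_of_isClosedImmersion_one G
    exact IsSeparated.of_comp o.left X.hom
  exact {}

end Groth.Agent.OrbitProper15
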